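import Mathlib.RingTheory.WittVector.Truncated
import Mathlib.RingTheory.Ideal.Quotient.Operations
import Mathlib.RingTheory.Ideal.Maps
import Mathlib.RingTheory.Nilpotent.Lemmas

universe u

namespace WittTheta

variable {p : ℕ} [Fact p.Prime] {n : ℕ} {B : Type u} [CommRing B]

theorem exists_lift (a : TruncatedWittVector p n (B ⧸ (Ideal.span {(p : B)}))) :
    ∃ x : WittVector p B,
      WittVector.truncate n (WittVector.map (Ideal.Quotient.mk (Ideal.span {(p : B)})) x) = a := by
  obtain ⟨y, rfl⟩ := WittVector.truncate_surjective p n _ a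
  obtain ⟨x, rfl⟩ := WittVector.map_surjective
    (Ideal.Quotient.mk (Ideal.span {(p : B)})) Ideal.Quotient.mk_surjective y
  exact ⟨x, rfl⟩

variable (θ : TruncatedWittVector p n (B ⧸ (Ideal.span {(p : B)})) →+* B)
    (hθ : ∀ x : WittVector p B,
      θ (WittVector.truncate n (WittVector.map (Ideal.Quotient.mk (Ideal.span {(p : B)})) x)) =
        ∑ i : Fin n, (p : B) ^ (i : ℕ) * (x.coeff i) ^ (p ^ (n - i)))

include hθ in
theorem mk_theta (hn : 0 < n) (a : TruncatedWittVector p n (B ⧸ (Ideal.span {(p : B)}))) :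
    Ideal.Quotient.mk (Ideal.span {(p : B)}) (θ a) = (a.coeff ⟨0, hn⟩) ^ (p ^ n) := by
  obtain ⟨x, rfl⟩ := exists_lift a
  obtain ⟨m, rfl⟩ := Nat.exists_eq_add_one_of_ne_zero hn.ne'
  rw [hθ, WittVector.coeff_truncate, WittVector.map_coeff, Fin.sum_univ_succ, map_add]
  simp only [Fin.val_zero, pow_zero, one_mul, Nat.sub_zero, map_pow]
  rw [add_eq_left, map_sum]
  refine Finset.sum_eq_zero fun i _ => Ideal.Quotient.eq_zero_iff_mem.mpr ?_
  exact Ideal.mul_mem_right _ _ (Ideal.pow_mem_of_mem _ (Ideal.mem_span_singleton_self _) _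
    (Nat.succ_pos _))

include hθ in
theorem surjective (hp : (p : B) ^ n = 0)
    (hF : Function.Surjective (fun y : B ⧸ (Ideal.span {(p : B)}) => y ^ p)) :
    Function.Surjective θ := by
  rcases Nat.eq_zero_or_pos n with rfl | hn
  · rw [pow_zero] at hp
    have := subsingleton_of_zero_eq_one hp.symm
    exact Function.surjective_to_subsingleton θ
  have hFn : ∀ (j : ℕ) (y : B ⧸ (Ideal.span {(p : B)})), ∃ z, z ^ p ^ j = y := by
    intro j
    induction j with
    | zero => exact fun y => ⟨y, by simp⟩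
    | succ j ih =>
      intro y
      obtain ⟨w, hw⟩ := hF y
      obtain ⟨z, hz⟩ := ih w
      exact ⟨z, by rw [pow_succ, pow_mul, hz]; exact hw⟩
  have h1 : ∀ b : B, ∃ a c, b = θ a + (p : B) * c := by
    intro b
    obtain ⟨z, hz⟩ := hFn n (Ideal.Quotient.mk _ b)
    let a := TruncatedWittVector.mk p (fun i : Fin n => if (i : ℕ) = 0 then z else 0)
    have ha : Ideal.Quotient.mk (Ideal.span {(p : B)}) (b - θ a) = 0 := by
      rw [map_sub, mk_theta θ hθ hn, TruncatedWittVector.coeff_mk]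
      simp [hz]
    obtain ⟨c, hc⟩ := Ideal.mem_span_singleton'.mp (Ideal.Quotient.eq_zero_iff_mem.mp ha)
    exact ⟨a, c, by rw [mul_comm, hc]; ring⟩
  have h2 : ∀ (j : ℕ) (b : B), ∃ a c, b = θ a + (p : B) ^ j * c := by
    intro j
    induction j with
    | zero => exact fun b => ⟨0, b, by simp⟩
    | succ j ih =>
      intro b
      obtain ⟨a, c, rfl⟩ := ih b
      obtain ⟨a', c', rfl⟩ := h1 c
      refine ⟨a + (p : TruncatedWittVector p n (B ⧸ (Ideal.span {(p : B)}))) ^ j * a', c', ?_⟩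
      rw [map_add, map_mul, map_pow, map_natCast]
      ring
  intro b
  obtain ⟨a, c, rfl⟩ := h2 n b
  exact ⟨a, by rw [hp, zero_mul, add_zero]⟩

end WittTheta
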